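import Cfsg.Agent.Gol.Conj

set_option autoImplicit false
set_option maxRecDepth 100000
set_option linter.all false

namespace Cfsg.Agent.Gol.O12
open Cfsg.Agent.CGT

def g_Ws : List (List ℕ) := [[0, 4, 8, 2, 2, 10, 8, 2, 4], [2, 4, 3, 4, 8], [4, 10, 0, 8, 4, 0], [1, 3, 8, 6, 4, 1], [3, 1, 4, 8, 6, 1], [1, 6, 1, 1, 4, 1], [1, 6, 4], [4, 0], [1, 1, 4, 0], [1, 1, 4, 1], [1, 4, 1, 1], [4, 0, 4, 1], [3, 4], [2], [1, 1], [0], [0], [2], [4], [6], [8], [10]]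
theorem g_s0 : slpB 5 m12_ts (chainBase [] m12_ls) g_Ws [[1, 1, 3, 4, 3, 3, 0], [1, 1, 3, 5, 2, 0, 3], [9, 7, 8, 8, 8, 9, 7], [7, 6, 8, 6, 8, 8, 8], [7, 8, 6, 8, 9, 8, 8, 6], [11, 11, 11, 11, 13, 10], [10, 12, 11, 13, 15], [11, 13, 11, 13, 12, 10, 12, 12], [10, 11, 14, 15, 15, 11, 12], [11, 11, 13, 10, 10, 15, 13, 10], [23, 19, 16, 19, 17, 25], [16, 19, 21, 20, 18, 22, 16], [24, 19, 24], [30], [26], [25, 27], [11, 17, 26], [7, 8, 19, 31], [0, 0, 9, 15, 10, 16, 26]] 3 22 = true := by decide +kernel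
theorem g_top {G : Type*} [Group G] {φ : G →* Equiv.Perm ℕ} {γ : ℕ → G}
    (C : Cert φ γ 5 m12_ns m12_ts [0, 2, 4, 6, 8, 10] m12_ls) : gw γ (g_Ws.take 3) = ⊤ := by
  have h0 : SlpTo γ (gw γ (g_Ws.take 3)) g_Ws 3 := fun i hi =>
    ev_mem_gw γ (by interval_cases i <;> decide +kernel)
  rw [eq_top_iff, ← C.gen]
  exact SlpTo.gp_le (SlpTo.step C.M C.base (by decide +kernel) h0 g_s0) (by decide +kernel)

end Cfsg.Agent.Gol.O12
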