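import Cfsg.Agent.Gol.O12.OutX
import Cfsg.Agent.Gol.O12.OutU
import Cfsg.Agent.Gol.O12.OutG
import Cfsg.Agent.CGT.Out2

set_option autoImplicit false
set_option maxRecDepth 100000
set_option linter.all false

namespace Cfsg.Agent.Gol.O12
open Cfsg.Agent.CGT

def od : OutD := ⟨5, m12_ts, (chainBase [] m12_ls), [0, 4, 8, 2, 2, 10, 8, 2, 4], [2, 4, 3, 4, 8], [4, 10, 0, 8, 4, 0], [2, 4, 3, 4, 8], 11, 3, 1, 1, 4, [1, 2], [[0, 2, 10, 2, 8, 0, 6, 3, 4, 3]], [[0, 4, 0, 4, 0, 4, 0, 4, 0, 4, 0, 4], [0, 3, 5, 3, 0, 3, 5, 3, 0, 3, 5, 3, 0, 3, 5, 3, 0, 3, 5, 3, 0, 3, 5, 3]], [[[0, 4, 8, 2, 2, 10, 8, 2, 4], [2, 4, 3, 4, 8], [4, 10, 0, 8, 4, 0]], [[10, 3, 8, 3, 4, 3], [2, 4, 3, 4, 8], [4, 10, 0, 8, 4, 0]]]⟩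
theorem od_b : od.basic 95040 1 = true := by decide +kernel
theorem od_c : conjB 5 m12_ts (chainBase [] m12_ls) [8, 3, 10] od.u cu_S.u od.Cl cu_S.Cl = true := by decide +kernel
theorem od_k1 : od.cands 1 ([] :: od.Cl) [[0, 1, 515, 513, 1], [1, 1, 513, 1, 1]] = true := by decide +kernel
theorem od_k2 : od.cands 2 ([] :: od.Cl) [[2, 1, 3, 1, 1], [1, 1, 1, 1, 513]] = true := by decide +kernel
def bW : List (List ℕ) := [[2, 8, 2, 2, 10, 0, 6, 2, 4], [3, 6, 10, 6, 8, 2, 1, 4], [4, 8, 10, 3, 8, 6, 1, 6, 0], [10, 6, 10, 8, 0, 2, 6, 1], [1, 3, 8, 3, 1], [6, 10, 0, 10, 2]]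
theorem od_s : od.second bW [8, 2, 6, 8, 4, 3] [10, 3, 8, 3, 4, 3] [4, 10, 0, 8, 4, 0] = true := by decide +kernel
theorem od_o : od.outer [10, 3, 8, 3, 4, 3] [4, 10, 0, 8, 4, 0] ([] :: od.Cl) [[1, 1, 1, 1, 1], [1, 3, 1, 1, 1]] = true := by decide +kernel
theorem out_card {G : Type*} [Group G] {φ : G →* Equiv.Perm ℕ} {γ : ℕ → G} (C : Cert φ γ 5 m12_ns m12_ts [0, 2, 4, 6, 8, 10] m12_ls)
    (hN : Nat.card G = 95040) (β : MulAut G) (hβ : ∀ j, β (γ j) = wg γ bW j) : Nat.card (Cfsg.Out G) = 2 :=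
  haveI := C.fin
  OutD.out_two (D := od) C.M C.base hN (by norm_num [od]) od_b (cx_cent C) ((cu_cent C).conj C.M C.base od_c)
    (by
    intro k hk
    simp only [od, List.mem_cons, List.not_mem_nil, or_false] at hk
    rcases hk with rfl | rfl
    exacts [OutD.cands_sound C.M C.base od_b od_k1, OutD.cands_sound C.M C.base od_b od_k2]) (g_top C) rfl β hβ od_s od_o
def nn : Net := Net.cons 16 0x5ac0 <|
  Net.cons 8 0x8a00bc <|
  Net.cons 4 0x2020a00 <|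
  Net.cons 2 0x20202000 <|
  Net.cons 1 0x10401101 <|
  Net.cons 2 0x302100 <|
  Net.cons 4 0xa070304 <|
  Net.cons 8 0xc2001d <|
  Net.cons 16 0x5a75 <|
  Net.nil
theorem out_eq : Nat.card (Cfsg.Out Cfsg.Spor.M12) = 2 := by
  obtain ⟨β, hβ⟩ := exists_aut_of_conjOK m12_cert (nn := nn) (W := bW) (by decide +kernel)
  exact out_card m12_cert m12_card β hβ

end Cfsg.Agent.Gol.O12
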